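/-
The filtration of truncated Witt vectors of `A[1/(x₁⋯x_r)]` by pole order.
-/
import Groth.Prelude.Def_W4c6katofiltaWFil
import Groth.Agent.WittHomog.Basic
import Mathlib

universe u

namespace Groth.Agent.WittFilUFD

open MvPolynomial WittFil

section monomials

variable {B : Type u} [CommRing B] {r : ℕ} (u : Fin r → Bˣ)

theorem zmon_add (e e' : Fin r → ℤ) : zmon u (e + e') = zmon u e * zmon u e' := by
  simp [zmon, zpow_add, Finset.prod_mul_distrib]

theorem zmon_zero : zmon u 0 = 1 := by simp [zmon]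

theorem zmon_natMul (q : ℕ) (e : Fin r → ℤ) : zmon u (fun i => (q : ℤ) * e i) = zmon u e ^ q := by
  unfold zmon
  rw [← Units.val_pow_eq_pow_val, ← Finset.prod_pow]
  refine congrArg Units.val (Finset.prod_congr rfl fun i _ => ?_)
  rw [← zpow_natCast, ← zpow_mul, mul_comm]

theorem zmon_sub_cancel (e : Fin r → ℤ) : zmon u (-e) * zmon u e = 1 := by
  rw [← zmon_add, neg_add_cancel, zmon_zero]

variable {A : Type u} [CommRing A] [Algebra A B] (x : Fin r → A) (hu : ∀ i, (u i : B) = algebraMap A B (x i))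

include hu in
theorem zmon_natCast (e : Fin r → ℕ) : zmon u (fun i => (e i : ℤ)) = algebraMap A B (∏ i, x i ^ e i) := by
  simp [zmon, hu, map_prod, map_pow, Units.coe_prod]

include hu in
theorem zmon_mem_of_nonneg {e : Fin r → ℤ} (he : ∀ i, 0 ≤ e i) : zmon u e ∈ (algebraMap A B).range := by
  rw [show e = fun i => ((e i).toNat : ℤ) from funext fun i => (Int.toNat_of_nonneg (he i)).symm,
    zmon_natCast u x hu]
  exact ⟨_, rfl⟩

include hu in
theorem mem_of_le {y : B} {e e' : Fin r → ℤ} (h : y * zmon u e ∈ (algebraMap A B).range) (he : ∀ i, e i ≤ e' i) :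
    y * zmon u e' ∈ (algebraMap A B).range := by
  rw [show e' = e + (e' - e) by abel, zmon_add, ← mul_assoc]
  exact mul_mem h (zmon_mem_of_nonneg u x hu fun i => by simpa using he i)

end monomials

section ufd

variable {A B : Type u} [CommRing A] [IsDomain A] [CommRing B] [Algebra A B] {r : ℕ} (x : Fin r → A)
  (hx : ∀ i, Prime (x i)) (hxa : ∀ i j, Associated (x i) (x j) → i = j)

include hx hxa in
theorem prod_pow_dvd {q : ℕ} (hq : 0 < q) (r' : Fin r → ℕ) (hr : ∀ i, r' i < q) :
    ∀ (N : ℕ) (e : Fin r → ℕ), ∑ i, e i = N → ∀ a c : A,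
      a ^ q * ∏ i, x i ^ r' i = c * ∏ i, x i ^ (q * e i) → ∏ i, x i ^ e i ∣ a := by
  classical
  intro N
  induction N with
  | zero =>
    intro e he a c _
    have : ∀ i, e i = 0 := fun i => (Finset.sum_eq_zero_iff.mp he) i (Finset.mem_univ i)
    simp [this]
  | succ N ih =>
    intro e he a c h
    obtain ⟨i, hi⟩ : ∃ i, e i ≠ 0 := by
      by_contra hcon
      push Not at hcon
      simp [hcon] at he
    have hdvd : x i ^ q ∣ a ^ q * ∏ j, x j ^ r' j := by
      rw [h]
      refine dvd_mul_of_dvd_right ((pow_dvd_pow _ ?_).trans (Finset.dvd_prod_of_mem (fun j => x j ^ (q * e j)) (Finset.mem_univ i))) _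
      exact Nat.le_mul_of_pos_right q (Nat.pos_of_ne_zero hi)
    have hxi : x i ∣ a := by
      by_contra hna
      have h1 := (hx i).pow_dvd_of_dvd_mul_left q (fun hh => hna ((hx i).dvd_of_dvd_pow hh)) hdvd
      rw [← Finset.mul_prod_erase _ _ (Finset.mem_univ i)] at h1
      have hnot : ¬ x i ∣ ∏ j ∈ Finset.univ.erase i, x j ^ r' j := by
        intro hh
        obtain ⟨j, hj, hjd⟩ := (hx i).exists_mem_finset_dvd hh
        exact (Finset.mem_erase.mp hj).1
          (hxa i j ((hx i).associated_of_dvd (hx j) ((hx i).dvd_of_dvd_pow hjd))).symm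
      have h2 := (hx i).pow_dvd_of_dvd_mul_right q hnot h1
      have := (pow_dvd_pow_iff (hx i).ne_zero (hx i).not_unit).mp h2
      exact absurd this (by have := hr i; omega)
    obtain ⟨a', rfl⟩ := hxi
    obtain ⟨k, hk⟩ := Nat.exists_eq_add_one_of_ne_zero hi
    let e' := Function.update e i k
    have hsum : ∑ j, e' j = N := by
      have h1 := Finset.add_sum_erase Finset.univ e (Finset.mem_univ i)
      have h2 := Finset.add_sum_erase Finset.univ e' (Finset.mem_univ i)
      have h3 : ∑ j ∈ Finset.univ.erase i, e' j = ∑ j ∈ Finset.univ.erase i, e j :=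
        Finset.sum_congr rfl fun j hj => by simp [e', Finset.ne_of_mem_erase hj]
      rw [h3, show e' i = k from Function.update_self ..] at h2
      omega
    have hprod : ∀ s : ℕ, ∏ j, x j ^ (s * e j) = x i ^ s * ∏ j, x j ^ (s * e' j) := by
      intro s
      rw [← Finset.mul_prod_erase _ _ (Finset.mem_univ i),
        ← Finset.mul_prod_erase _ (fun j => x j ^ (s * e' j)) (Finset.mem_univ i), ← mul_assoc]
      congr 1
      · simp only [e', Function.update_self, hk, mul_add, mul_one, pow_add, mul_comm]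
      · exact Finset.prod_congr rfl fun j hj => by simp [e', Finset.ne_of_mem_erase hj]
    have h' : a' ^ q * ∏ j, x j ^ r' j = c * ∏ j, x j ^ (q * e' j) := by
      refine mul_left_cancel₀ (pow_ne_zero q (hx i).ne_zero) ?_
      rw [hprod, mul_pow] at h
      linear_combination h
    have := mul_dvd_mul_left (x i) (ih e' hsum a' c h')
    have h1 := hprod 1
    simp only [one_mul, pow_one] at h1
    rwa [h1]

variable (u : Fin r → Bˣ) (hu : ∀ i, (u i : B) = algebraMap A B (x i)) [IsLocalization.Away (∏ i, x i) B]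

include hx hxa hu in
theorem mem_iff (y : B) (q : ℕ) (hq : 0 < q) (n : Fin r → ℤ) :
    y ^ q * zmon u n ∈ (algebraMap A B).range ↔
      y * zmon u (fun i => n i / (q : ℤ)) ∈ (algebraMap A B).range := by
  let fl : Fin r → ℤ := fun i => n i / (q : ℤ)
  let r' : Fin r → ℕ := fun i => (n i % (q : ℤ)).toNat
  have hq' : (0 : ℤ) < q := by exact_mod_cast hq
  have hr' : ∀ i, (r' i : ℤ) = n i % q := fun i => Int.toNat_of_nonneg (Int.emod_nonneg _ hq'.ne')
  have hsplit : y ^ q * zmon u n = (y * zmon u fl) ^ q * algebraMap A B (∏ i, x i ^ r' i) := by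
    rw [← zmon_natCast u x hu, mul_pow, mul_assoc, ← zmon_natMul, ← zmon_add]
    congr 2
    funext i
    simp only [Pi.add_apply, hr', fl]
    exact (Int.mul_ediv_add_emod (n i) q).symm
  constructor
  · rintro ⟨c, hc⟩
    obtain ⟨⟨a, s⟩, ha⟩ := IsLocalization.surj (Submonoid.powers (∏ i, x i)) (y * zmon u fl)
    obtain ⟨N, hN⟩ := s.2
    simp only [← hN] at ha
    have hne : ∏ i, x i ≠ 0 := Finset.prod_ne_zero_iff.mpr fun i _ => (hx i).ne_zero
    have hinj : Function.Injective (algebraMap A B) :=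
      IsLocalization.injective B (powers_le_nonZeroDivisors_of_noZeroDivisors hne)
    have heq : a ^ q * ∏ i, x i ^ r' i = c * ∏ i, x i ^ (q * N) := by
      refine hinj ?_
      rw [map_mul, map_pow, map_mul, hc, hsplit, ← ha, Finset.prod_pow]
      simp only [map_pow, mul_pow, ← pow_mul]
      ring
    obtain ⟨d, hd⟩ := prod_pow_dvd x hx hxa hq r' (fun i => by
      have := Int.emod_lt_of_pos (n i) hq'
      have := hr' i
      omega) _ (fun _ => N) rfl a c heq
    refine ⟨d, ?_⟩
    have hu' : IsUnit (algebraMap A B ((∏ i, x i) ^ N)) :=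
      IsLocalization.map_units B (⟨_, N, rfl⟩ : Submonoid.powers (∏ i, x i))
    refine hu'.mul_right_cancel ?_
    rw [ha, ← map_mul, hd, Finset.prod_pow, mul_comm]
  · intro h
    rw [hsplit]
    exact mul_mem (pow_mem h q) ⟨_, rfl⟩

end ufd

section eval

/-- Evaluation of a weighted homogeneous polynomial in a multiplicative family of pieces. -/
theorem eval_piece {B : Type u} [CommRing B] {ι σ : Type*} [AddCommMonoid ι] (N : ι → AddSubgroup B)
    (h1 : (1 : B) ∈ N 0) (hmul : ∀ i j a b, a ∈ N i → b ∈ N j → a * b ∈ N (i + j))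
    (w : σ → ι) {P : MvPolynomial σ ℤ} {d : ι} (hP : IsWeightedHomogeneous w P d) (f : σ → B)
    (hf : ∀ s, f s ∈ N (w s)) : aeval f P ∈ N d := by
  classical
  have hpow : ∀ s e, f s ^ e ∈ N (e • w s) := by
    intro s e
    induction e with
    | zero => simpa using h1
    | succ e ih => rw [pow_succ, succ_nsmul]; exact hmul _ _ _ _ ih (hf s)
  have key : ∀ e : σ →₀ ℕ, (e.prod fun s k => f s ^ k) ∈ N (Finsupp.weight w e) := by
    intro e
    induction e using Finsupp.induction with
    | zero => simpa using h1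
    | single_add s k e hs hk ih =>
      rw [Finsupp.prod_add_index' (fun _ => pow_zero _) (fun _ _ _ => pow_add _ _ _),
        Finsupp.prod_single_index (h := fun x j => f x ^ j) (pow_zero (f s)), map_add, Finsupp.weight_single]
      exact hmul _ _ _ _ (hpow s k) ih
  rw [aeval_def, eval₂_eq]
  refine AddSubgroup.sum_mem _ fun e he => ?_
  rw [eq_intCast, ← zsmul_eq_mul]
  refine zsmul_mem ?_ _
  have := key e
  rw [hP (mem_support_iff.mp he)] at this
  exact this

/-- Scaling the variables by weight scales the value by the degree. -/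
theorem eval_scale {B : Type u} [CommRing B] {σ : Type*} (w : σ → ℕ) {P : MvPolynomial σ ℤ} {d : ℕ}
    (hP : IsWeightedHomogeneous w P d) (a : B) (f : σ → B) :
    aeval (fun s => a ^ w s * f s) P = a ^ d * aeval f P := by
  rw [aeval_def, aeval_def, eval₂_eq, eval₂_eq, Finset.mul_sum]
  refine Finset.sum_congr rfl fun e he => ?_
  have hd := hP (mem_support_iff.mp he)
  rw [Finsupp.weight_apply, Finsupp.sum] at hd
  simp only [mul_pow, Finset.prod_mul_distrib, ← pow_mul, Finset.prod_pow_eq_pow_sum]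
  rw [show ∑ i ∈ e.support, w i * e i = d by
    rw [← hd]; exact Finset.sum_congr rfl fun i _ => by rw [smul_eq_mul, mul_comm]]
  ring

end eval

section witt

variable (p : ℕ) [hp : Fact p.Prime]

theorem wittSub_homog (n : ℕ) :
    IsWeightedHomogeneous (fun x : Fin 2 × ℕ => p ^ x.2) (WittVector.wittSub p n) (p ^ n) := by
  refine WittHomog.wittStructureInt_homog p _ _ (fun m => ?_) n
  simp only [map_sub, map_X, bind₁_X_right]
  have h := fun b : Fin 2 => WittHomog.rename_wittPolynomial p (fun _ : Fin 2 => 1) b m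
  simp only [one_mul] at h
  exact (h 0).sub (h 1)

theorem wittMul_homog₂ (n : ℕ) :
    IsWeightedHomogeneous
      (fun x : Fin 2 × ℕ => ((![1, 0] : Fin 2 → ℕ) x.1 * p ^ x.2, (![0, 1] : Fin 2 → ℕ) x.1 * p ^ x.2))
      (WittVector.wittMul p n) (p ^ n, p ^ n) := by
  have hfirst : IsWeightedHomogeneous (fun x : Fin 2 × ℕ => (![1, 0] : Fin 2 → ℕ) x.1 * p ^ x.2)
      (WittVector.wittMul p n) (p ^ n) := by
    refine WittHomog.wittStructureInt_homog p _ _ (fun m => ?_) n
    simp only [map_mul, map_X, bind₁_X_right]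
    convert (WittHomog.rename_wittPolynomial p ![1, 0] (0 : Fin 2) m).mul
      (WittHomog.rename_wittPolynomial p ![1, 0] (1 : Fin 2) m) using 1
    simp
  intro d hd
  have h1 := hfirst hd
  have h2 := WittHomog.wittMul_homog p n hd
  simp only [Finsupp.weight_apply, Finsupp.sum] at h1 h2 ⊢
  refine Prod.ext ?_ ?_
  · rw [Prod.fst_sum]; exact h1
  · rw [Prod.snd_sum]; exact h2

theorem coeff_sub (n : ℕ) {B : Type u} [CommRing B] (a b : WittVector p B) :
    (a - b).coeff n = aeval (fun x : Fin 2 × ℕ => ![a.coeff, b.coeff] x.1 x.2) (WittVector.wittSub p n) :=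
  WittVector.sub_coeff a b n

theorem coeff_mul (n : ℕ) {B : Type u} [CommRing B] (a b : WittVector p B) :
    (a * b).coeff n = aeval (fun x : Fin 2 × ℕ => ![a.coeff, b.coeff] x.1 x.2) (WittVector.wittMul p n) :=
  WittVector.mul_coeff a b n

/-- Coefficients of a product with a Teichmüller representative. -/
theorem teichmuller_mul_coeff {B : Type u} [CommRing B] (a : B) (y : WittVector p B) (n : ℕ) :
    (WittVector.teichmuller p a * y).coeff n = a ^ p ^ n * y.coeff n := by
  conv_rhs => rw [← one_mul y, coeff_mul]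
  rw [coeff_mul]
  have hfirst : IsWeightedHomogeneous (fun x : Fin 2 × ℕ => (![1, 0] : Fin 2 → ℕ) x.1 * p ^ x.2)
      (WittVector.wittMul p n) (p ^ n) := fun d hd => by
    have := congrArg Prod.fst (wittMul_homog₂ p n hd)
    simp only [Finsupp.weight_apply, Finsupp.sum, Prod.fst_sum] at this ⊢
    exact this
  rw [← eval_scale _ hfirst a]
  congr 2
  funext s
  obtain ⟨b, i⟩ := s
  fin_cases b
  · rcases Nat.eq_zero_or_pos i with rfl | hi
    · simp
    · simp [WittVector.teichmuller_coeff_pos _ a i hi, WittVector.one_coeff_eq_of_pos _ _ i hi]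
  · simp

variable {A B : Type u} [CommRing A] [IsDomain A] [CommRing B] [Algebra A B] {r : ℕ} (x : Fin r → A)
  (hx : ∀ i, Prime (x i)) (hxa : ∀ i j, Associated (x i) (x j) → i = j)
  (u : Fin r → Bˣ) (hu : ∀ i, (u i : B) = algebraMap A B (x i)) [IsLocalization.Away (∏ i, x i) B]

/-- The piece of weight `d` for pole order `n` at level `P`. -/
def piece (P : ℕ) (n : Fin r → ℤ) (d : ℕ) : AddSubgroup B where
  carrier := {y | y * zmon u (fun i => n i * (d : ℤ) / (P : ℤ)) ∈ (algebraMap A B).range}
  add_mem' := fun {a b} ha hb => by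
    rw [Set.mem_ofPred_eq, add_mul]; exact add_mem ha hb
  zero_mem' := by rw [Set.mem_ofPred_eq, zero_mul]; exact zero_mem _
  neg_mem' := fun {a} ha => by
    rw [Set.mem_ofPred_eq, neg_mul]; exact neg_mem ha

theorem floor_superadd (P : ℕ) (hP : 0 < P) (a b : ℤ) : a / (P : ℤ) + b / P ≤ (a + b) / P := by
  have hP' : (0 : ℤ) < P := by exact_mod_cast hP
  rw [Int.le_ediv_iff_mul_le hP', add_mul]
  exact add_le_add (Int.ediv_mul_le a hP'.ne') (Int.ediv_mul_le b hP'.ne')

include hu in
theorem piece_mul (P : ℕ) (hP : 0 < P) (n n' : Fin r → ℤ) (d d' : ℕ) {a b : B}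
    (ha : a ∈ piece (A := A) u P n d) (hb : b ∈ piece (A := A) u P n' d') :
    a * b * zmon u (fun i => (n i * (d : ℤ) + n' i * (d' : ℤ)) / (P : ℤ)) ∈ (algebraMap A B).range := by
  refine mem_of_le u x hu ?_ fun i => floor_superadd P hP _ _
  rw [show (fun i => n i * (d : ℤ) / (P : ℤ) + n' i * (d' : ℤ) / P) =
    (fun i => n i * (d : ℤ) / (P : ℤ)) + (fun i => n' i * (d' : ℤ) / P) from rfl, zmon_add]
  have ha' : a * zmon u (fun i => n i * (d : ℤ) / (P : ℤ)) ∈ (algebraMap A B).range := ha
  have hb' : b * zmon u (fun i => n' i * (d' : ℤ) / (P : ℤ)) ∈ (algebraMap A B).range := hb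
  convert mul_mem ha' hb' using 1
  ring

theorem one_mem_piece (P : ℕ) (n : Fin r → ℤ) : (1 : B) ∈ piece (A := A) u P n 0 := by
  show (1 : B) * zmon u _ ∈ (algebraMap A B).range
  simp only [Nat.cast_zero, mul_zero, Int.zero_ediv]
  rw [show (fun _ : Fin r => (0 : ℤ)) = 0 from rfl, zmon_zero, mul_one]
  exact one_mem _

include hx hxa hu in
theorem mem_fil_iff {k : ℕ} (n : Fin r → ℤ) {j : ℕ} (hj : j ≤ k) (y : B) :
    y ^ (p ^ (k - j)) * zmon u n ∈ (algebraMap A B).range ↔ y ∈ piece (A := A) u (p ^ k) n (p ^ j) := by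
  rw [mem_iff x hx hxa u hu y _ (pow_pos hp.out.pos _) n]
  have : (fun i => n i / ((p ^ (k - j) : ℕ) : ℤ)) = fun i => n i * ((p ^ j : ℕ) : ℤ) / ((p ^ k : ℕ) : ℤ) := by
    funext i
    have h : ((p ^ k : ℕ) : ℤ) = ((p ^ (k - j) : ℕ) : ℤ) * ((p ^ j : ℕ) : ℤ) := by
      rw [← Nat.cast_mul, ← pow_add, Nat.sub_add_cancel hj]
    rw [h, Int.mul_ediv_mul_of_pos_left _ _ (by exact_mod_cast pow_pos hp.out.pos j)]
  rw [this]
  rfl

include hx hxa hu in
theorem sub_mem_fil (n : Fin r → ℤ) (m : ℕ) (a b : WittVector p B)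
    (ha : WittVector.truncate m a ∈ fil p m (A := A) (zmon u n))
    (hb : WittVector.truncate m b ∈ fil p m (A := A) (zmon u n)) :
    WittVector.truncate m (a - b) ∈ fil p m (A := A) (zmon u n) := by
  intro j
  have hk : (j : ℕ) ≤ m - 1 := by have := j.2; omega
  rw [WittVector.coeff_truncate, mem_fil_iff p x hx hxa u hu n hk, coeff_sub]
  classical
  let f : Fin 2 × ℕ → B := fun s => if s.2 < m then ![a.coeff, b.coeff] s.1 s.2 else 0
  have hev : aeval (fun x : Fin 2 × ℕ => ![a.coeff, b.coeff] x.1 x.2) (WittVector.wittSub p j) =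
      aeval f (WittVector.wittSub p j) := by
    refine eval₂Hom_congr' rfl (fun s hs _ => ?_) rfl
    have : s.2 < m := by
      have h := Finset.mem_product.mp (WittVector.wittSub_vars p j hs)
      have := Finset.mem_range.mp h.2
      have := j.2
      omega
    simp [f, this]
  rw [hev]
  refine eval_piece (piece (A := A) u (p ^ (m - 1)) n) (one_mem_piece u _ n) (fun i i' c c' hc hc' => ?_)
    _ (wittSub_homog p j) f (fun s => ?_)
  · show c * c' * zmon u _ ∈ (algebraMap A B).range
    simpa [mul_add] using piece_mul x u hu (p ^ (m - 1)) (pow_pos hp.out.pos _) n n i i' hc hc'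
  · simp only [f]
    split_ifs with hs
    · obtain ⟨c, i⟩ := s
      have hi : i ≤ m - 1 := by simp only at hs; omega
      fin_cases c
      · exact (mem_fil_iff p x hx hxa u hu n hi _).mp (by simpa [WittVector.coeff_truncate] using ha ⟨i, hs⟩)
      · exact (mem_fil_iff p x hx hxa u hu n hi _).mp (by simpa [WittVector.coeff_truncate] using hb ⟨i, hs⟩)
    · exact zero_mem _

include hx hxa hu in
theorem mul_mem_fil (n n' : Fin r → ℤ) (m : ℕ) (a b : WittVector p B)
    (ha : WittVector.truncate m a ∈ fil p m (A := A) (zmon u n))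
    (hb : WittVector.truncate m b ∈ fil p m (A := A) (zmon u n')) :
    WittVector.truncate m (a * b) ∈ fil p m (A := A) (zmon u (n + n')) := by
  intro j
  have hk : (j : ℕ) ≤ m - 1 := by have := j.2; omega
  rw [WittVector.coeff_truncate, mem_fil_iff p x hx hxa u hu _ hk, coeff_mul]
  classical
  let f : Fin 2 × ℕ → B := fun s => if s.2 < m then ![a.coeff, b.coeff] s.1 s.2 else 0
  have hev : aeval (fun x : Fin 2 × ℕ => ![a.coeff, b.coeff] x.1 x.2) (WittVector.wittMul p j) =
      aeval f (WittVector.wittMul p j) := by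
    refine eval₂Hom_congr' rfl (fun s hs _ => ?_) rfl
    have : s.2 < m := by
      have h := Finset.mem_product.mp (WittVector.wittMul_vars p j hs)
      have := Finset.mem_range.mp h.2
      have := j.2
      omega
    simp [f, this]
  rw [hev]
  let P := p ^ (m - 1)
  let N : ℕ × ℕ → AddSubgroup B := fun d =>
    { carrier := {y | y * zmon u (fun i => (n i * (d.1 : ℤ) + n' i * (d.2 : ℤ)) / (P : ℤ)) ∈ (algebraMap A B).range}
      add_mem' := fun {s t} hs ht => by rw [Set.mem_ofPred_eq, add_mul]; exact add_mem hs ht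
      zero_mem' := by rw [Set.mem_ofPred_eq, zero_mul]; exact zero_mem _
      neg_mem' := fun {s} hs => by rw [Set.mem_ofPred_eq, neg_mul]; exact neg_mem hs }
  have h := eval_piece N ?_ (fun i i' c c' hc hc' => ?_) _ (wittMul_homog₂ p j) f (fun s => ?_)
  · show _ * zmon u _ ∈ (algebraMap A B).range
    simpa [N, P, add_mul] using h
  · show (1 : B) * zmon u _ ∈ (algebraMap A B).range
    simp only [Prod.fst_zero, Prod.snd_zero, Nat.cast_zero, mul_zero, add_zero, Int.zero_ediv]
    rw [show (fun _ : Fin r => (0 : ℤ)) = 0 from rfl, zmon_zero, mul_one]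
    exact one_mem _
  · show c * c' * zmon u _ ∈ (algebraMap A B).range
    refine mem_of_le u x hu ?_ (e := (fun t => (n t * (i.1 : ℤ) + n' t * (i.2 : ℤ)) / (P : ℤ)) +
      (fun t => (n t * (i'.1 : ℤ) + n' t * (i'.2 : ℤ)) / (P : ℤ))) fun t => ?_
    · rw [zmon_add]
      have hc₁ : c * zmon u (fun t => (n t * (i.1 : ℤ) + n' t * (i.2 : ℤ)) / (P : ℤ)) ∈ (algebraMap A B).range := hc
      have hc₂ : c' * zmon u (fun t => (n t * (i'.1 : ℤ) + n' t * (i'.2 : ℤ)) / (P : ℤ)) ∈ (algebraMap A B).range := hc'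
      convert mul_mem hc₁ hc₂ using 1
      ring
    · refine (floor_superadd P (pow_pos hp.out.pos _) _ _).trans (le_of_eq ?_)
      simp only [Prod.fst_add, Prod.snd_add, Nat.cast_add]
      ring_nf
  · show f s * zmon u _ ∈ (algebraMap A B).range
    simp only [f]
    split_ifs with hs
    · obtain ⟨c, i⟩ := s
      have hi : i ≤ m - 1 := by simp only at hs; omega
      fin_cases c
      · have h1 := (mem_fil_iff p x hx hxa u hu n hi _).mp (by simpa [WittVector.coeff_truncate] using ha ⟨i, hs⟩)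
        simpa [P, piece] using h1
      · have h1 := (mem_fil_iff p x hx hxa u hu n' hi _).mp (by simpa [WittVector.coeff_truncate] using hb ⟨i, hs⟩)
        simpa [P, piece] using h1
    · rw [zero_mul]; exact zero_mem _

end witt

end Groth.Agent.WittFilUFD
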